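import Mathlib.RingTheory.PowerSeries.Substitution
import Mathlib.RingTheory.PowerSeries.Inverse
import Mathlib.FieldTheory.IsAlgClosed.Basic
import Mathlib.Algebra.CharP.Lemmas
import Mathlib.Algebra.CharP.Algebra
import Mathlib.Algebra.Ring.GeomSum
import Mathlib.Tactic.LinearCombination

/-!
# The first cohomology of an Artin–Schreier substitution
-/

namespace ASCoverLib

open PowerSeries

variable {k : Type*} [Field k]

lemma dvd_sub_of_pow_dvd {n N : ℕ} (hn : (n : k) ≠ 0) {v w : k⟦X⟧} (hv : constantCoeff v = 1)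
    (hw : constantCoeff w = 1) (h : (X : k⟦X⟧) ^ N ∣ v ^ n - w ^ n) : (X : k⟦X⟧) ^ N ∣ v - w := by
  rw [← geom_sum₂_mul v w n] at h
  refine (IsUnit.dvd_mul_left ?_).mp h
  rw [isUnit_iff_constantCoeff, map_sum]
  simp [hv, hw, hn]

lemma eq_of_pow_eq {n : ℕ} (hn : (n : k) ≠ 0) {v w : k⟦X⟧} (hv : constantCoeff v = 1)
    (hw : constantCoeff w = 1) (h : v ^ n = w ^ n) : v = w := by
  have h0 : (∑ i ∈ Finset.range n, v ^ i * w ^ (n - 1 - i)) * (v - w) = 0 := by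
    rw [geom_sum₂_mul, h, sub_self]
  refine sub_eq_zero.mp ((mul_eq_zero.mp h0).resolve_left fun hz => hn ?_)
  simpa [hv, hw] using congrArg constantCoeff hz

lemma root_expand {n : ℕ} (hn : 0 < n) (hn' : (n : k) ≠ 0) (u : k⟦X⟧) (hu1 : constantCoeff u = 1)
    (hun : u ^ n * (1 + X ^ n) = 1) :
    (X : k⟦X⟧) ^ (2 * n) ∣ u - (1 + C (-(n : k)⁻¹) * X ^ n) := by
  set w : k⟦X⟧ := 1 + C (-(n : k)⁻¹) * X ^ n with hw
  have hw1 : constantCoeff w = 1 := by simp [w, zero_pow hn.ne']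
  refine dvd_sub_of_pow_dvd hn' hu1 hw1 ?_
  have h2 : (X : k⟦X⟧) ^ (2 * n) ∣ w ^ n - (1 + (n : k⟦X⟧) * (C (-(n : k)⁻¹) * X ^ n)) := by
    suffices H : ∀ (j : ℕ) (x : k⟦X⟧), x ^ 2 ∣ (1 + x) ^ j - (1 + (j : k⟦X⟧) * x) by
      refine dvd_trans ?_ (H n (C (-(n : k)⁻¹) * X ^ n))
      rw [mul_pow, ← pow_mul, mul_comm n 2]
      exact dvd_mul_left _ _
    intro j x
    induction j with
    | zero => simp
    | succ j ih =>
      have : (1 + x) ^ (j + 1) - (1 + ((j + 1 : ℕ) : k⟦X⟧) * x) =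
          ((1 + x) ^ j - (1 + (j : k⟦X⟧) * x)) * (1 + x) + (j : k⟦X⟧) * x ^ 2 := by
        push_cast
        ring
      rw [this]
      exact dvd_add (ih.mul_right _) (dvd_mul_left _ _)
  have hc : (n : k⟦X⟧) * (C (-(n : k)⁻¹) * X ^ n) = -X ^ n := by
    rw [← mul_assoc, ← map_natCast C n, ← map_mul, mul_neg, mul_inv_cancel₀ hn']
    simp
  rw [hc] at h2
  have h3 : IsUnit (1 + X ^ n : k⟦X⟧) := IsUnit.of_mul_eq_one_right _ hun
  refine (h3.dvd_mul_right).mp ?_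
  have : (u ^ n - w ^ n) * (1 + X ^ n) =
      -((w ^ n - (1 + -X ^ n)) * (1 + X ^ n)) + X ^ (2 * n) := by
    rw [sub_mul, hun]
    ring
  rw [this]
  exact dvd_add ((h2.mul_right _).neg_right) dvd_rfl

lemma zpow_expand {n : ℕ} (β : k) (u : k⟦X⟧ˣ) (h : (X : k⟦X⟧) ^ (2 * n) ∣ (u : k⟦X⟧) - (1 + C β * X ^ n))
    (e : ℤ) :
    (X : k⟦X⟧) ^ (2 * n) ∣ ((u ^ e : k⟦X⟧ˣ) : k⟦X⟧) - (1 + C ((e : k) * β) * X ^ n) := by
  induction e using Int.induction_on with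
  | zero => simp
  | succ e ih =>
    rw [zpow_add_one, Units.val_mul, Int.cast_add, Int.cast_one, add_mul, one_mul, map_add]
    have : ((u ^ (e : ℤ) : k⟦X⟧ˣ) : k⟦X⟧) * (u : k⟦X⟧) - (1 + (C (((e : ℤ) : k) * β) + C β) * X ^ n) =
        (((u ^ (e : ℤ) : k⟦X⟧ˣ) : k⟦X⟧) - (1 + C (((e : ℤ) : k) * β) * X ^ n)) * (u : k⟦X⟧) +
          (1 + C (((e : ℤ) : k) * β) * X ^ n) * ((u : k⟦X⟧) - (1 + C β * X ^ n)) +
          C (((e : ℤ) : k) * β) * C β * X ^ (2 * n) := by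
      ring
    rw [this]
    exact dvd_add (dvd_add (ih.mul_right _) (h.mul_left _)) (dvd_mul_left _ _)
  | pred e ih =>
    refine (u.isUnit.dvd_mul_right).mp ?_
    have : (((u ^ (-(e : ℤ) - 1) : k⟦X⟧ˣ) : k⟦X⟧) - (1 + C (((-(e : ℤ) - 1 : ℤ) : k) * β) * X ^ n)) * (u : k⟦X⟧) =
        (((u ^ (-(e : ℤ)) : k⟦X⟧ˣ) : k⟦X⟧) - (1 + C (((-(e : ℤ) : ℤ) : k) * β) * X ^ n)) -
          (1 + C (((-(e : ℤ) - 1 : ℤ) : k) * β) * X ^ n) * ((u : k⟦X⟧) - (1 + C β * X ^ n)) -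
          C (((-(e : ℤ) - 1 : ℤ) : k) * β) * C β * X ^ (2 * n) := by
      have he : ((u ^ (-(e : ℤ) - 1) : k⟦X⟧ˣ) : k⟦X⟧) * u = ((u ^ (-(e : ℤ)) : k⟦X⟧ˣ) : k⟦X⟧) := by
        rw [← Units.val_mul, ← zpow_add_one]
        simp
      rw [sub_mul, he]
      push_cast
      rw [sub_mul, one_mul, map_sub]
      ring
    rw [this]
    exact dvd_sub (dvd_sub ih (h.mul_left _)) (dvd_mul_left _ _)

lemma hasSubst_X_mul (u : k⟦X⟧) : HasSubst ((X : k⟦X⟧) * u) :=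
  HasSubst.of_constantCoeff_zero' (by simp)

lemma dvd_coboundary {n : ℕ} (u : k⟦X⟧ˣ) (hu : (X : k⟦X⟧) ^ n ∣ (u : k⟦X⟧) - 1) (a : ℤ) (h : k⟦X⟧) :
    (X : k⟦X⟧) ^ n ∣ ((u ^ a : k⟦X⟧ˣ) : k⟦X⟧) * subst (X * (u : k⟦X⟧)) h - h := by
  have ha : (X : k⟦X⟧) ^ n ∣ ((u ^ a : k⟦X⟧ˣ) : k⟦X⟧) - 1 := by
    induction a using Int.induction_on with
    | zero => simp
    | succ e ih =>
      rw [zpow_add_one, Units.val_mul]
      have : ((u ^ (e : ℤ) : k⟦X⟧ˣ) : k⟦X⟧) * u - 1 =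
          (((u ^ (e : ℤ) : k⟦X⟧ˣ) : k⟦X⟧) - 1) * u + ((u : k⟦X⟧) - 1) := by ring
      rw [this]
      exact dvd_add (ih.mul_right _) hu
    | pred e ih =>
      refine (u.isUnit.dvd_mul_right).mp ?_
      rw [sub_mul, ← Units.val_mul, ← zpow_add_one, sub_add_cancel, one_mul,
        show ((u ^ (-(e : ℤ)) : k⟦X⟧ˣ) : k⟦X⟧) - (u : k⟦X⟧) =
          (((u ^ (-(e : ℤ)) : k⟦X⟧ˣ) : k⟦X⟧) - 1) - ((u : k⟦X⟧) - 1) by ring]
      exact dvd_sub ih hu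
  have hs : (X : k⟦X⟧) ^ n ∣ subst (X * (u : k⟦X⟧)) h - h := by
    rw [X_pow_dvd_iff]
    intro e he
    rw [map_sub, coeff_subst' (hasSubst_X_mul _), finsum_eq_single _ e]
    · have hd : coeff e ((X * (u : k⟦X⟧)) ^ e) = 1 := by
        rw [mul_pow, coeff_X_pow_mul', if_pos le_rfl, Nat.sub_self, coeff_zero_eq_constantCoeff, map_pow]
        have h1 : constantCoeff ((u : k⟦X⟧) - 1) = 0 := by
          rw [← coeff_zero_eq_constantCoeff]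
          exact X_pow_dvd_iff.mp hu 0 (by omega)
        rw [map_sub, map_one, sub_eq_zero] at h1
        rw [h1, one_pow]
      rw [hd, smul_eq_mul, mul_one, sub_self]
    · intro d hd
      rw [mul_pow, coeff_X_pow_mul']
      split_ifs with hde
      · have hz : (X : k⟦X⟧) ^ n ∣ (u : k⟦X⟧) ^ d - 1 := hu.trans (sub_one_dvd_pow_sub_one _ _)
        have h2 := X_pow_dvd_iff.mp hz (e - d) (by omega)
        rw [map_sub, coeff_one, if_neg (by omega), sub_zero] at h2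
        rw [h2, smul_zero]
      · simp
  have : ((u ^ a : k⟦X⟧ˣ) : k⟦X⟧) * subst (X * (u : k⟦X⟧)) h - h =
      (((u ^ a : k⟦X⟧ˣ) : k⟦X⟧) - 1) * subst (X * (u : k⟦X⟧)) h + (subst (X * (u : k⟦X⟧)) h - h) := by ring
  rw [this]
  exact dvd_add (ha.mul_right _) hs

theorem linearIndependent (p : ℕ) [Fact p.Prime] [CharP k p] (n : ℕ) (hn : 0 < n) (hpn : ¬ p ∣ n)
    (u : k⟦X⟧) (hu1 : constantCoeff u = 1) (hun : u ^ n * (1 + X ^ n) = 1) (hu : IsUnit u) (a : ℤ)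
    (c : ℕ → k⟦X⟧)
    (hc : ∀ m : ℕ, 1 ≤ m → m ≤ n → X ^ m * c m = ((hu.unit ^ (a - m) : k⟦X⟧ˣ) : k⟦X⟧) - 1)
    (coef : ℕ → k) (h : k⟦X⟧)
    (hh : ((hu.unit ^ a : k⟦X⟧ˣ) : k⟦X⟧) * subst (X * u) h - h =
      ∑ m ∈ (Finset.Icc 1 n).filter (fun m : ℕ => ¬ (p : ℤ) ∣ a - (m : ℤ)), coef m • c m) :
    ∀ m ∈ (Finset.Icc 1 n).filter (fun m : ℕ => ¬ (p : ℤ) ∣ a - (m : ℤ)), coef m = 0 := by
  have hn' : (n : k) ≠ 0 := by rwa [Ne, CharP.cast_eq_zero_iff k p]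
  have hexp := root_expand hn hn' u hu1 hun
  have hu' : (X : k⟦X⟧) ^ n ∣ (hu.unit : k⟦X⟧) - 1 := by
    have h1 : (X : k⟦X⟧) ^ n ∣ u - (1 + C (-(n : k)⁻¹) * X ^ n) :=
      (pow_dvd_pow _ (by omega)).trans hexp
    have : (hu.unit : k⟦X⟧) - 1 = (u - (1 + C (-(n : k)⁻¹) * X ^ n)) + C (-(n : k)⁻¹) * X ^ n := by
      rw [hu.unit_spec]; ring
    rw [this]
    exact dvd_add h1 (dvd_mul_left _ _)
  intro m₀ hm₀
  have hz := X_pow_dvd_iff.mp (dvd_coboundary hu.unit hu' a h) (n - m₀)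
  rw [hu.unit_spec, hh] at hz
  obtain ⟨hmI, hmp⟩ := Finset.mem_filter.mp hm₀
  obtain ⟨h1m, hmn⟩ := Finset.mem_Icc.mp hmI
  have hz' := hz (by omega)
  rw [map_sum, Finset.sum_eq_single m₀] at hz'
  · have hcm : coeff (n - m₀) (c m₀) = ((a - m₀ : ℤ) : k) * -(n : k)⁻¹ := by
      have he := congrArg (coeff n) (hc m₀ h1m hmn)
      rw [coeff_X_pow_mul', if_pos hmn] at he
      rw [he]
      have hd := X_pow_dvd_iff.mp (zpow_expand (-(n : k)⁻¹) hu.unit hexp (a - m₀)) n (by omega)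
      simp only [map_sub, map_add, coeff_one, coeff_C_mul_X_pow, if_neg hn.ne', if_pos, zero_add] at hd
      rw [map_sub, coeff_one, if_neg hn.ne', sub_zero]
      exact sub_eq_zero.mp hd
    rw [map_smul, hcm, smul_eq_mul] at hz'
    refine (mul_eq_zero.mp hz').resolve_right (mul_ne_zero ?_ (neg_ne_zero.mpr (inv_ne_zero hn')))
    rwa [Ne, CharP.intCast_eq_zero_iff k p]
  · intro m hm hne
    obtain ⟨hmI', -⟩ := Finset.mem_filter.mp hm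
    obtain ⟨h1m', hmn'⟩ := Finset.mem_Icc.mp hmI'
    have he := congrArg (coeff (n - m₀ + m)) (hc m h1m' hmn')
    rw [coeff_X_pow_mul', if_pos (by omega), Nat.add_sub_cancel] at he
    have hd := X_pow_dvd_iff.mp (zpow_expand (-(n : k)⁻¹) hu.unit hexp (a - m)) (n - m₀ + m) (by omega)
    simp only [map_sub, map_add, coeff_one, coeff_C_mul_X_pow, if_neg (show n - m₀ + m ≠ 0 by omega),
      if_neg (show n - m₀ + m ≠ n by omega), add_zero, sub_zero] at hd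
    rw [map_smul, he, map_sub, coeff_one, if_neg (show n - m₀ + m ≠ 0 by omega), hd]
    simp
  · intro h'
    exact absurd hm₀ h'

theorem exists_coboundary [IsAlgClosed k] (p : ℕ) [Fact p.Prime] [CharP k p] (n : ℕ) (hn : 0 < n)
    (hpn : ¬ p ∣ n) (u : k⟦X⟧) (hu1 : constantCoeff u = 1) (hun : u ^ n * (1 + X ^ n) = 1)
    (hu : IsUnit u) (a : ℤ) (m : ℕ) (hmn : m ≤ n) (hdvd : (p : ℤ) ∣ a - m) (c : k⟦X⟧)
    (hc : X ^ m * c = ((hu.unit ^ (a - m) : k⟦X⟧ˣ) : k⟦X⟧) - 1) :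
    ∃ h : k⟦X⟧, ((hu.unit ^ a : k⟦X⟧ˣ) : k⟦X⟧) * subst (X * u) h - h = c := by
  have hn' : (n : k) ≠ 0 := by rwa [Ne, CharP.cast_eq_zero_iff k p]
  have hp2 : 2 ≤ p := (Fact.out : p.Prime).two_le
  obtain ⟨ζ, hζ⟩ := IsAlgClosed.exists_pow_nat_eq (-1 : k) hn
  obtain ⟨q, rfl⟩ : ∃ q, p = q + 1 := ⟨p - 1, by omega⟩
  set s : k⟦X⟧ := C ζ * X ^ q with hs
  have hs0 : constantCoeff s = 0 := by simp [s, zero_pow (show q ≠ 0 by omega)]
  have hS : HasSubst s := HasSubst.of_constantCoeff_zero' hs0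
  set v : k⟦X⟧ := subst s u with hv
  have hvn : v ^ n * (1 - X ^ (n * q)) = 1 := by
    have := congrArg (substAlgHom hS) hun
    simp only [map_mul, map_pow, map_add, map_one] at this
    rw [coe_substAlgHom, ← hv, subst_X hS] at this
    rw [mul_comm n q, pow_mul, sub_eq_add_neg]
    rw [hs, mul_pow, ← map_pow C, hζ] at this
    simpa using this
  have hv1 : constantCoeff v = 1 := by
    have h0 := constantCoeff_subst_eq_zero hs0 (u - 1) (by simp [hu1])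
    rw [subst_sub hS, map_sub, ← coe_substAlgHom hS, map_one, coe_substAlgHom] at h0
    exact sub_eq_zero.mp (h0.trans rfl) |>.trans (map_one _)
  have hT : HasSubst ((X : k⟦X⟧) * u) := hasSubst_X_mul u
  set v' : k⟦X⟧ := subst (X * u) v with hv'
  have hcp : ((q + 1 : ℕ) : k⟦X⟧) = 0 := by
    rw [← map_natCast C, CharP.cast_eq_zero k (q + 1), map_zero]
  have inv : v' * u ^ (q + 1) = v := by
    have hv'n : v' ^ n * (1 - (X * u) ^ (n * q)) = 1 := by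
      have := congrArg (substAlgHom hT) hvn
      simp only [map_mul, map_pow, map_sub, map_one] at this
      rwa [coe_substAlgHom, ← hv', subst_X hT] at this
    have hv'1 : constantCoeff v' = 1 := by
      have h0 := constantCoeff_subst_eq_zero (a := (X : k⟦X⟧) * u) (by simp; exact Or.inl constantCoeff_X) (v - 1) (by simp [hv1])
      rw [subst_sub hT, map_sub, ← coe_substAlgHom hT, map_one, coe_substAlgHom] at h0
      exact sub_eq_zero.mp (h0.trans rfl) |>.trans (map_one _)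
    refine eq_of_pow_eq hn' (by simp [hv'1, hu1]) hv1 ?_
    have hne : (1 - X ^ (n * q) : k⟦X⟧) ≠ 0 := fun h => by simpa [h] using hvn
    refine mul_right_cancel₀ hne ?_
    rw [hvn]
    have := charP_of_injective_ringHom (f := (C : k →+* k⟦X⟧)) C_injective (q + 1)
    have hfr : (1 + X ^ n : k⟦X⟧) ^ (q + 1) = 1 + (X ^ n) ^ (q + 1) := by
      rw [add_pow_char _ _ (q + 1), one_pow]
    have hu' : u ^ n * (1 + X ^ n) = 1 := hun
    have e1 : (1 - X ^ (n * q) : k⟦X⟧) =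
        (1 + X ^ n) ^ (q + 1) * (1 - (X * u) ^ (n * q)) := by
      have e2 : (1 + X ^ n : k⟦X⟧) ^ q * (u ^ n) ^ q = 1 := by rw [← mul_pow, mul_comm, hun, one_pow]
      have e3 : (1 + X ^ n : k⟦X⟧) ^ (q + 1) * (X * u) ^ (n * q) = (1 + X ^ n) * (X ^ n) ^ q := by
        rw [mul_pow, pow_mul X, pow_mul u, pow_succ']
        linear_combination (1 + X ^ n : k⟦X⟧) * (X ^ n) ^ q * e2
      rw [mul_sub, mul_one, e3, hfr, pow_succ' (X ^ n : k⟦X⟧) q, pow_mul]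
      ring
    rw [e1, mul_pow, ← pow_mul u, mul_comm (q + 1) n, pow_mul u]
    linear_combination (hv'n) + (v' ^ n * (1 - (X * u) ^ (n * q))) * ((mul_pow (u ^ n) (1 + X ^ n) (q + 1)).symm.trans (by rw [hun, one_pow] : (u ^ n * (1 + X ^ n)) ^ (q + 1) = 1))
  obtain ⟨j, hj⟩ := hdvd
  have hvu : IsUnit v := by rw [isUnit_iff_constantCoeff, hv1]; exact isUnit_one
  let V := hvu.unit
  let φ : k⟦X⟧ →ₐ[k] k⟦X⟧ := substAlgHom hT
  have hdvd' : (X : k⟦X⟧) ^ m ∣ ((V ^ j : k⟦X⟧ˣ) : k⟦X⟧) - 1 := by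
    have hv2 : (X : k⟦X⟧) ^ m ∣ (V : k⟦X⟧) - 1 := by
      refine dvd_sub_of_pow_dvd hn' hv1 (map_one _) ?_
      rw [one_pow]
      have hq : IsUnit (1 - X ^ (n * q) : k⟦X⟧) := IsUnit.of_mul_eq_one_right _ hvn
      refine (hq.dvd_mul_right).mp ?_
      rw [sub_mul, show (V : k⟦X⟧) = v from rfl, hvn, one_mul, sub_sub_cancel]
      exact pow_dvd_pow _ (le_trans hmn (Nat.le_mul_of_pos_right n (by omega)))
    have h2 : ∀ e : ℤ, (X : k⟦X⟧) ^ m ∣ ((V ^ e : k⟦X⟧ˣ) : k⟦X⟧) - 1 := fun e => by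
      have := dvd_coboundary V hv2 e (1 : k⟦X⟧)
      rwa [← coe_substAlgHom (R := k) (hasSubst_X_mul _), map_one, mul_one] at this
    exact h2 j
  obtain ⟨r, hr⟩ := hdvd'
  refine ⟨-r, mul_left_cancel₀ (pow_ne_zero m X_ne_zero) ?_⟩
  let W : k⟦X⟧ˣ := Units.map (φ : k⟦X⟧ →* k⟦X⟧) (V ^ j)
  have hrel : ((hu.unit ^ (a - (m : ℤ)) : k⟦X⟧ˣ) : k⟦X⟧) * φ (((V ^ j : k⟦X⟧ˣ) : k⟦X⟧)) =
      ((V ^ j : k⟦X⟧ˣ) : k⟦X⟧) := by
    have h1 : Units.map (φ : k⟦X⟧ →* k⟦X⟧) V * hu.unit ^ (((q + 1 : ℕ)) : ℤ) = V := by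
      apply Units.ext
      simp only [Units.val_mul, Units.coe_map, zpow_natCast, Units.val_pow_eq_pow_val, hu.unit_spec]
      change φ v * u ^ (q + 1) = v
      rw [show φ v = v' from congrFun (coe_substAlgHom hT) v]
      exact inv
    have h2 : hu.unit ^ (a - (m : ℤ)) * Units.map (φ : k⟦X⟧ →* k⟦X⟧) (V ^ j) = V ^ j := by
      rw [hj, zpow_mul, map_zpow, ← mul_zpow, mul_comm, h1]
    exact congrArg Units.val h2
  have hua : ((hu.unit ^ a : k⟦X⟧ˣ) : k⟦X⟧) = ((hu.unit ^ (a - (m : ℤ)) : k⟦X⟧ˣ) : k⟦X⟧) * u ^ m := by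
    have hg : ∀ U : k⟦X⟧ˣ, ((U ^ a : k⟦X⟧ˣ) : k⟦X⟧) = ((U ^ (a - (m : ℤ)) : k⟦X⟧ˣ) : k⟦X⟧) * (U : k⟦X⟧) ^ m :=
      fun U => by
        rw [← Units.val_pow_eq_pow_val, ← Units.val_mul, ← zpow_natCast, ← zpow_add]
        simp
    exact hg hu.unit
  have hφr : φ ((V ^ j : k⟦X⟧ˣ) : k⟦X⟧) - 1 = (X * u) ^ m * φ r := by
    have := congrArg φ hr
    rw [map_sub, map_one, map_mul, map_pow] at this
    rw [this, show φ X = X * u from (congrFun (coe_substAlgHom hT) X).trans (subst_X hT)]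
  rw [← coe_substAlgHom (R := k) hT, map_neg, hc, mul_sub, hua]
  linear_combination (-1 : k⟦X⟧) * hrel + ((hu.unit ^ (a - (m : ℤ)) : k⟦X⟧ˣ) : k⟦X⟧) * hφr - hr

end ASCoverLib
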